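import Groth.Agent.W4c3tautjacobian.K885.Basic

/-! Vanishing of the relations in low degree. -/

set_option autoImplicit false

open MvPolynomial W4c3tautjacobian

namespace K885.Taut

variable (g : ℕ)

theorem E_iter_hom {P : RelRing g} {n : ℤ × ℤ} (h : IsWeightedHomogeneous (wz g) P n) (k : ℕ) :
    IsWeightedHomogeneous (wz g) ((E g)^[k] P) (n + (2 * (k : ℤ), 0)) := by
  induction k with
  | zero =>
    have h1 : n + (2 * ((0 : ℕ) : ℤ), 0) = n := by ext <;> simp
    rw [h1]
    exact h
  | succ k ih =>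
    rw [Function.iterate_succ_apply']
    have h1 := E_hom g ih
    have h2 : n + (2 * (k : ℤ), 0) + (2, 0) = n + (2 * ((k + 1 : ℕ) : ℤ), 0) := by
      obtain ⟨n1, n2⟩ := n
      simp only [Prod.mk_add_mk, add_zero]
      congr 1
      push_cast
      ring
    rwa [h2] at h1

/-- the key vanishing -/
theorem F_iter_E_iter (hg : 1 ≤ g) {P : RelRing g} {m : ℤ}
    (h : IsWeightedHomogeneous (wz g) P (2 * (g : ℤ), m)) (s : ℕ) :
    (F g)^[g + 1 + s] ((E g)^[s + 1] P) = 0 := by
  induction s with
  | zero =>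
    simp only [add_zero, zero_add, Function.iterate_one]
    rw [F_iter_E g hg h]
    have h1 : (F g)^[g + 1] P = 0 := by
      apply eq_zero_of_neg g (F_iter_hom g h (g + 1))
      simp only [Prod.fst_sub]
      push_cast
      omega
    have h2 : ((g : ℚ) + 1) * ((g : ℚ) - (((2 * (g : ℤ), m) : ℤ × ℤ).1 : ℤ) + g) = 0 := by
      push_cast
      ring
    rw [h1, h2]
    simp [E]
  | succ s ih =>
    have h3 := E_iter_hom g h (s + 1)
    rw [Function.iterate_succ_apply' (E g) (s + 1) P]
    have h4 : g + 1 + (s + 1) = (g + 1 + s) + 1 := by ring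
    rw [h4, F_iter_E g hg h3, ih, mul_zero, add_zero]
    have h1 : (F g)^[g + 1 + s + 1] ((E g)^[s + 1] P) = 0 := by
      apply eq_zero_of_neg g (F_iter_hom g h3 _)
      simp only [Prod.fst_sub, Prod.fst_add]
      push_cast
      omega
    rw [h1]
    simp [E]

/-- For a monomial free of `x 2 0`, the first degree is at most three times the second. -/
theorem weight_le (d : Var g →₀ ℕ) (hd : ∀ h : Valid g (2, 0), d (some ⟨(2, 0), h⟩) = 0) :
    (Finsupp.weight (wt g) d).1 ≤ 3 * (Finsupp.weight (wt g) d).2 := by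
  rw [Finsupp.weight_apply, Finsupp.sum, Prod.fst_sum, Prod.snd_sum, Finset.mul_sum]
  refine Finset.sum_le_sum fun v hv => ?_
  simp only [Prod.smul_fst, Prod.smul_snd, smul_eq_mul]
  rw [← mul_assoc, mul_comm 3 (d v), mul_assoc]
  refine Nat.mul_le_mul_left _ ?_
  cases v with
  | none => simp [wt]
  | some p =>
    obtain ⟨⟨i, j⟩, hp⟩ := p
    simp only [wt]
    obtain ⟨h1, h2, h3, h4⟩ := hp
    simp only at h1 h2 h3 h4
    rcases Nat.eq_zero_or_pos j with hj | hj
    · subst hj
      have hi : i = 2 := by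
        rcases Nat.lt_or_ge i 2 with h | h
        · interval_cases i
          · exact absurd rfl h4
          · simp at h3
        · omega
      subst hi
      exact absurd (hd ⟨h1, h2, h3, h4⟩) (Finsupp.mem_support_iff.1 hv)
    · omega

theorem E_iter_monomial (hv : Valid g (2, 0)) (d : Var g →₀ ℕ) (s : ℕ) :
    (E g)^[s] (monomial d 1) = monomial (d + Finsupp.single (some ⟨(2, 0), hv⟩) s) 1 := by
  induction s with
  | zero => simp
  | succ s ih =>
    rw [Function.iterate_succ_apply', ih, E]
    have hx : xv g 2 0 = X (some ⟨(2, 0), hv⟩) := xv_of_valid g 2 0 hv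
    rw [hx, X, monomial_mul, one_mul]
    have h1 : (Finsupp.single (some ⟨(2, 0), hv⟩) 1 : Var g →₀ ℕ) +
        (d + Finsupp.single (some ⟨(2, 0), hv⟩) s) = d + Finsupp.single (some ⟨(2, 0), hv⟩) (s + 1) := by
      rw [Finsupp.single_add]
      ac_rfl
    rw [h1]

theorem F_iter_monomial_eq_zero (hg : 1 ≤ g) (d : Var g →₀ ℕ) (k m : ℕ) (hk : g < k)
    (hm : 3 * m ≤ 2 * g) (hd : Finsupp.weight (wt g) d = (2 * k, m)) :
    (F g)^[k] (monomial d 1) = 0 := by
  have hv : Valid g (2, 0) := ⟨by simp, by simp; omega, by simp, by simp⟩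
  set v : Var g := some ⟨(2, 0), hv⟩ with hvdef
  let d₀ : Var g →₀ ℕ := d.erase v
  have hd0 : d = d₀ + Finsupp.single v (d v) := (Finsupp.erase_add_single v d).symm
  have hw0 : Finsupp.weight (wt g) d = Finsupp.weight (wt g) d₀ + (2 * d v, 0) := by
    conv_lhs => rw [hd0]
    rw [map_add, Finsupp.weight_single]
    congr 1
    simp [hvdef, wt, mul_comm]
  have hle := weight_le g d₀ (fun h => by simp [d₀, hvdef])
  have h1 : (Finsupp.weight (wt g) d₀).1 + 2 * d v = 2 * k := by
    have := congrArg Prod.fst hw0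
    rw [hd] at this
    simpa using this.symm
  have h2 : (Finsupp.weight (wt g) d₀).2 = m := by
    have := congrArg Prod.snd hw0
    rw [hd] at this
    simpa using this.symm
  rw [h2] at hle
  have hs : k - g ≤ d v := by omega
  let e : Var g →₀ ℕ := d₀ + Finsupp.single v (d v - (k - g))
  have he : IsWeightedHomogeneous (wz g) (monomial e (1 : ℚ)) (2 * (g : ℤ), (m : ℤ)) := by
    apply isWeightedHomogeneous_monomial
    rw [weight_wz]
    have h3 : Finsupp.weight (wt g) e = (2 * g, m) := by
      simp only [e, map_add, Finsupp.weight_single]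
      apply Prod.ext
      · simp only [Prod.fst_add, wt, Prod.smul_fst, smul_eq_mul, hvdef] at h1 hs ⊢
        omega
      · simp only [Prod.snd_add, hvdef, wt, Prod.smul_snd, smul_eq_mul, mul_zero, add_zero]
        exact h2
    rw [h3]
    push_cast
    rfl
  have h4 := F_iter_E_iter g hg he (k - g - 1)
  have h5 : g + 1 + (k - g - 1) = k := by omega
  have h6 : k - g - 1 + 1 = k - g := by omega
  rw [h5, h6, E_iter_monomial g hv] at h4
  have h7 : e + Finsupp.single (some ⟨(2, 0), hv⟩) (k - g) = d := by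
    rw [hd0]
    simp only [e, ← hvdef]
    rw [add_assoc, ← Finsupp.single_add]
    congr 2
    omega
  rwa [h7] at h4

/-- The ideal of elements without terms of bidegree `(0, m)`, `3 m ≤ 2 g`. -/
noncomputable def lowIdeal : Ideal (RelRing g) where
  carrier := {P | ∀ d : Var g →₀ ℕ, (Finsupp.weight (wt g) d).1 = 0 →
    3 * (Finsupp.weight (wt g) d).2 ≤ 2 * g → coeff d P = 0}
  add_mem' := fun {P Q} hP hQ d h1 h2 => by
    rw [coeff_add, hP d h1 h2, hQ d h1 h2, add_zero]
  zero_mem' := fun d _ _ => coeff_zero d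
  smul_mem' := fun a P hP d h1 h2 => by
    classical
    rw [smul_eq_mul, coeff_mul]
    refine Finset.sum_eq_zero fun x hx => ?_
    rw [Finset.mem_antidiagonal] at hx
    rw [← hx, map_add] at h1 h2
    simp only [Prod.fst_add, Prod.snd_add] at h1 h2
    rw [hP x.2 (by omega) (by omega), mul_zero]

theorem relIdeal_le (hg : 1 ≤ g) : relIdeal g ≤ lowIdeal g := by
  rw [relIdeal, Ideal.span_le]
  rintro _ ⟨d, k, hd, rfl⟩ d' h1 h2
  by_contra hne
  have hhom : IsWeightedHomogeneous (wz g) (monomial d (1 : ℚ)) (Finsupp.weight (wz g) d) :=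
    isWeightedHomogeneous_monomial _ _ _ rfl
  have h3 := F_iter_hom g hhom k hne
  rw [weight_wz, weight_wz] at h3
  have h4 := congrArg Prod.fst h3
  have h5 := congrArg Prod.snd h3
  simp only [Prod.fst_sub, Prod.snd_sub, sub_zero] at h4 h5
  apply hne
  rw [F_iter_monomial_eq_zero g hg d k (Finsupp.weight (wt g) d).2 (by omega) (by omega)
    (Prod.ext (by omega) rfl)]
  exact coeff_zero d'

end K885.Taut
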