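import Groth.Agent.W4c3tautjacobian.K885.Pos

/-! The low symbols generate the first-degree-0 part modulo the relations. -/

set_option autoImplicit false

open MvPolynomial W4c3tautjacobian

namespace K885.Taut

variable {g : ℕ} {hv : Valid g (2, 0)}

theorem valid31 (hg : 2 ≤ g) : Valid g (3, 1) := ⟨by simp, by simp; omega, by decide, by simp⟩

theorem single_v20 (r : ℕ × ℕ) (hr : Valid g r) (h : 1 ≤ r.2) (n : ℕ) :
    (Finsupp.single (some ⟨r, hr⟩) n : Var g →₀ ℕ) (some ⟨(2, 0), hv⟩) = 0 := by
  rw [Finsupp.single_eq_of_ne]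
  intro h'
  have h1 := congrArg (fun v : Var g => (wt g v).2) h'
  simp only [wt] at h1
  omega

theorem path1 (hg : 2 ≤ g) (i : ℕ) (hi : i + 1 ≤ g) (k : ℕ) (hk : k + 1 ≤ 2 * i) :
    ∀ (r : ℕ × ℕ) (hr : Valid g r), r = (k + 3, k + 1) →
    Dom hv ((F g)^[k] (MvPolynomial.monomial (Finsupp.single (some ⟨(3, 1), valid31 hg⟩) (2 * i)) 1))
      (Finsupp.single (some ⟨(3, 1), valid31 hg⟩) (2 * i - (k + 1)) + Finsupp.single (some ⟨r, hr⟩) 1) := by
  induction k with
  | zero =>
    rintro r hr rfl
    have h1 : (Finsupp.single (some ⟨(3, 1), valid31 hg⟩) (2 * i - (0 + 1)) +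
        Finsupp.single (some ⟨(0 + 3, 0 + 1), hr⟩) 1 : Var g →₀ ℕ) =
        Finsupp.single (some ⟨(3, 1), valid31 hg⟩) (2 * i) := by
      have : (some ⟨(0 + 3, 0 + 1), hr⟩ : Var g) = some ⟨(3, 1), valid31 hg⟩ := rfl
      rw [this, ← Finsupp.single_add]
      congr 1
      omega
    rw [h1]
    refine ⟨1, ?_, ?_⟩
    · rw [sg, Finsupp.degree_single, pow_mul]
      norm_num
    · simpa using InP.zero
  | succ k ih =>
    rintro r hr rfl
    have hq : Valid g (k + 3, k + 1) := by
      obtain ⟨h1, h2, h3, h4⟩ := hr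
      simp only at h1 h2 h3 h4
      refine ⟨by simp only; omega, by simp only; omega, ?_, by simp⟩
      simp only
      exact ⟨k + 2, by ring⟩
    have hD := ih (by omega) (k + 3, k + 1) hq rfl
    have h1 : (Finsupp.single (some ⟨(3, 1), valid31 hg⟩) (2 * i - (k + 1)) : Var g →₀ ℕ) =
        Finsupp.single (some ⟨(3, 1), valid31 hg⟩) (2 * i - (k + 1 + 1)) +
        Finsupp.single (some ⟨(3, 1), valid31 hg⟩) 1 := by
      rw [← Finsupp.single_add]
      congr 1
      omega
    rw [h1] at hD
    rw [Function.iterate_succ_apply']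
    apply Dom.merge _ (3, 1) (k + 3, k + 1) (k + 1 + 3, k + 1 + 1) (valid31 hg) hq hr (by simp)
      (by simp) (by simp only; omega) (by simp only; omega) _ hD
    simp only [Finsupp.coe_add, Pi.add_apply]
    rw [single_v20 (3, 1) (valid31 hg) (by simp), single_v20 (3, 1) (valid31 hg) (by simp),
      single_v20 (k + 3, k + 1) hq (by simp)]

theorem path2 (hg : 2 ≤ g) (i : ℕ) (hi1 : 1 ≤ i) (hi : i + 1 ≤ g) (b : ℕ) (hb : b ≤ i + 1) :
    ∀ (r : ℕ × ℕ) (hr : Valid g r), r = (2 * (i + 1 - b), 2 * i) →
    Dom hv ((F g)^[2 * i - 1 + b]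
      (MvPolynomial.monomial (Finsupp.single (some ⟨(3, 1), valid31 hg⟩) (2 * i)) 1))
      (0 + Finsupp.single (some ⟨r, hr⟩) 1) := by
  induction b with
  | zero =>
    rintro r hr hr'
    have h := path1 (hv := hv) hg i hi (2 * i - 1) (by omega) r hr
      (by rw [hr']; exact Prod.ext (by simp only; omega) (by simp only; omega))
    have h1 : 2 * i - (2 * i - 1 + 1) = 0 := by omega
    rw [h1, Finsupp.single_zero] at h
    exact h
  | succ b ih =>
    rintro r hr rfl
    have hp : Valid g (2 * (i + 1 - b), 2 * i) := by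
      refine ⟨by simp only; omega, by simp only; omega, ?_, ?_⟩
      · simp only
        exact ⟨i + 1 - b + i, by ring⟩
      · simp only [ne_eq, Prod.mk.injEq, not_and]
        omega
    have hD := ih (by omega) (2 * (i + 1 - b), 2 * i) hp rfl
    rw [← add_assoc, Function.iterate_succ_apply']
    apply Dom.lower 0 (2 * (i + 1 - b), 2 * i) (2 * (i + 1 - (b + 1)), 2 * i) hp hr
      (by simp only; omega) rfl _ hD
    rw [zero_add, Finsupp.single_eq_of_ne]
    intro h
    have h1 := congrArg (fun v : Var g => (wt g v).2) h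
    simp only [wt] at h1
    omega

/-- The coefficient of `x 0 (2i)` in `F^(3i) (x 3 1)^(2i)` is nonzero. -/
theorem coeff_ne_zero (hg : 2 ≤ g) (i : ℕ) (hi1 : 1 ≤ i) (hi : i + 1 ≤ g)
    (hr : Valid g (0, 2 * i)) :
    coeff (Finsupp.single (some ⟨(0, 2 * i), hr⟩) 1) ((F g)^[3 * i]
      (MvPolynomial.monomial (Finsupp.single (some ⟨(3, 1), valid31 hg⟩) (2 * i)) 1)) ≠ 0 := by
  classical
  have hv : Valid g (2, 0) := ⟨by simp, by simp; omega, by simp, by simp⟩
  have h := path2 (hv := hv) hg i hi1 hi (i + 1) le_rfl (0, 2 * i) hr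
    (Prod.ext (by simp only; omega) rfl)
  have h1 : 2 * i - 1 + (i + 1) = 3 * i := by omega
  rw [h1, zero_add] at h
  obtain ⟨c, hc, hcP⟩ := h
  have h2 := hcP.sgn (Finsupp.single (some ⟨(0, 2 * i), hr⟩) 1) (by simp) (by
    rw [Finsupp.single_eq_of_ne]
    intro h
    have h1 := congrArg (fun v : Var g => (wt g v).2) h
    simp only [wt] at h1
    omega)
  rw [coeff_sub, coeff_monomial, if_pos rfl, mul_sub] at h2
  intro h3
  rw [h3, mul_zero] at h2
  linarith

/-- A polynomial of bidegree `(0, 2i)` is a multiple of `x 0 (2i)` plus a polynomial in `y` and the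
lower symbols. -/
theorem sub_mem_adjoin (i : ℕ) (hi1 : 1 ≤ i) (hr : Valid g (0, 2 * i)) (P : RelRing g)
    (hP : IsWeightedHomogeneous (wt g) P ((0, 2 * i) : ℕ × ℕ)) (A : Subalgebra ℚ (RelRing g))
    (hy : X none ∈ A) (hx : ∀ (j : ℕ) (hj : Valid g (0, 2 * j)), 1 ≤ j → j < i →
      X (some ⟨(0, 2 * j), hj⟩) ∈ A) :
    P - coeff (Finsupp.single (some ⟨(0, 2 * i), hr⟩) 1) P • X (some ⟨(0, 2 * i), hr⟩) ∈ A := by
  classical
  set v : Var g := some ⟨(0, 2 * i), hr⟩ with hvdef
  have hmon : ∀ d ∈ P.support, d ≠ Finsupp.single v 1 → MvPolynomial.monomial d (coeff d P) ∈ A := by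
    intro d hd hdv
    have hw : Finsupp.weight (wt g) d = (0, 2 * i) := hP (mem_support_iff.1 hd)
    -- each variable of `d` has first degree zero and second degree at most `2 i`
    have hw1 : ∑ u ∈ d.support, d u * (wt g u).1 = 0 := by
      have := congrArg Prod.fst hw
      rw [Finsupp.weight_apply, Finsupp.sum, Prod.fst_sum] at this
      simpa using this
    have hw2 : ∑ u ∈ d.support, d u * (wt g u).2 = 2 * i := by
      have := congrArg Prod.snd hw
      rw [Finsupp.weight_apply, Finsupp.sum, Prod.snd_sum] at this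
      simpa using this
    have hle : ∀ u ∈ d.support, (wt g u).1 = 0 ∧ d u * (wt g u).2 ≤ 2 * i := by
      intro u hu
      refine ⟨?_, ?_⟩
      swap
      · rw [← hw2]
        exact Finset.single_le_sum (f := fun u => d u * (wt g u).2) (fun _ _ => Nat.zero_le _) hu
      have h4 : d u * (wt g u).1 = 0 := by
        apply Nat.eq_zero_of_le_zero
        rw [← hw1]
        exact Finset.single_le_sum (f := fun u => d u * (wt g u).1) (fun _ _ => Nat.zero_le _) hu
      rcases Nat.mul_eq_zero.1 h4 with h5 | h5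
      · exact absurd h5 (Finsupp.mem_support_iff.1 hu)
      · exact h5
    have hdv0 : d v = 0 := by
      by_contra h0
      apply hdv
      have hvs : v ∈ d.support := Finsupp.mem_support_iff.2 h0
      have h1 := (hle v hvs).2
      have h2 : (wt g v).2 = 2 * i := rfl
      rw [h2] at h1
      have h3 : d v = 1 := by
        have : d v * (2 * i) ≤ 1 * (2 * i) := by omega
        have := Nat.le_of_mul_le_mul_right this (by omega)
        omega
      -- all the others vanish
      ext u
      by_cases huv : u = v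
      · rw [huv, h3]; simp
      · rw [Finsupp.single_eq_of_ne huv]
        by_contra hu
        have hus : u ∈ d.support := Finsupp.mem_support_iff.2 hu
        have h5 : d u * (wt g u).2 + d v * (wt g v).2 ≤ 2 * i := by
          rw [← hw2, ← Finset.add_sum_erase _ _ hus]
          apply Nat.add_le_add_left
          exact Finset.single_le_sum (f := fun u => d u * (wt g u).2) (fun _ _ => Nat.zero_le _)
            (Finset.mem_erase.2 ⟨fun h => huv h.symm, hvs⟩)
        rw [h3, h2] at h5
        have h6 : (wt g u).2 = 0 := by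
          have : d u * (wt g u).2 = 0 := by omega
          rcases Nat.mul_eq_zero.1 this with h7 | h7
          · exact absurd h7 hu
          · exact h7
        have h7 := (hle u hus).1
        cases u with
        | none => simp [wt] at h6
        | some p => exact p.2.2.2.2 (Prod.ext h7 h6)
    have hvar : ∀ u ∈ d.support, (X u : RelRing g) ∈ A := by
      intro u hu
      obtain ⟨h1, h2⟩ := hle u hu
      cases u with
      | none => exact hy
      | some p =>
        obtain ⟨⟨a, b⟩, hp⟩ := p
        have ha : a = 0 := h1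
        subst ha
        obtain ⟨j, hj⟩ : ∃ j, b = 2 * j := by
          obtain ⟨c, hc⟩ := hp.2.2.1
          exact ⟨c, by simp only at hc; omega⟩
        subst hj
        have hj1 : 1 ≤ j := by
          by_contra h
          apply hp.2.2.2
          have : j = 0 := by omega
          rw [this]
        have h3 : 1 ≤ d (some ⟨(0, 2 * j), hp⟩) :=
          Nat.one_le_iff_ne_zero.2 (Finsupp.mem_support_iff.1 hu)
        have h4 : 2 * j ≤ 2 * i := by
          have h5 : (wt g (some ⟨(0, 2 * j), hp⟩)).2 = 2 * j := rfl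
          rw [h5] at h2
          calc 2 * j = 1 * (2 * j) := by ring
            _ ≤ d (some ⟨(0, 2 * j), hp⟩) * (2 * j) := Nat.mul_le_mul_right _ h3
            _ ≤ 2 * i := h2
        have hji : j ≠ i := by
          rintro rfl
          exact (Finsupp.mem_support_iff.1 hu) hdv0
        exact hx j hp hj1 (by omega)
    rw [monomial_eq]
    refine A.mul_mem (A.algebraMap_mem _) ?_
    rw [Finsupp.prod]
    exact A.prod_mem fun u hu => A.pow_mem (hvar u hu) _
  have hX : coeff (Finsupp.single v 1) P • (X v : RelRing g) =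
      MvPolynomial.monomial (Finsupp.single v 1) (coeff (Finsupp.single v 1) P) := by
    rw [X, smul_monomial, smul_eq_mul, mul_one]
  rw [hX]
  by_cases hs : Finsupp.single v 1 ∈ P.support
  · have h1 : P - MvPolynomial.monomial (Finsupp.single v 1) (coeff (Finsupp.single v 1) P) =
        ∑ d ∈ P.support.erase (Finsupp.single v 1), MvPolynomial.monomial d (coeff d P) := by
      rw [sub_eq_iff_eq_add, Finset.sum_erase_add _ _ hs]
      exact P.as_sum
    rw [h1]
    exact A.sum_mem fun d hd => hmon d (Finset.mem_of_mem_erase hd) (Finset.ne_of_mem_erase hd)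
  · rw [notMem_support_iff.1 hs, monomial_zero, sub_zero]
    rw [P.as_sum]
    exact A.sum_mem fun d hd => hmon d hd (fun h => hs (h ▸ hd))

/-- The subalgebra of elements congruent to a polynomial in the low generators. -/
noncomputable def lowA (g : ℕ) : Subalgebra ℚ (RelRing g) :=
  ((Algebra.adjoin ℚ (lowGens g)).map (Ideal.Quotient.mkₐ ℚ (relIdeal g))).comap
    (Ideal.Quotient.mkₐ ℚ (relIdeal g))

theorem mem_lowA {P : RelRing g} : P ∈ lowA g ↔
    ∃ q ∈ Algebra.adjoin ℚ (lowGens g), P - q ∈ relIdeal g := by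
  rw [lowA, Subalgebra.mem_comap, Subalgebra.mem_map]
  constructor
  · rintro ⟨q, hq, h⟩
    exact ⟨q, hq, (Ideal.Quotient.eq.1 h.symm)⟩
  · rintro ⟨q, hq, h⟩
    exact ⟨q, hq, (Ideal.Quotient.eq.2 h).symm⟩

theorem xv_mem_lowA (i : ℕ) : xv g 0 (2 * (i : ℤ)) ∈ lowA g := by
  induction i using Nat.strong_induction_on with
  | _ i ih =>
    have hadj : ∀ q ∈ Algebra.adjoin ℚ (lowGens g), q ∈ lowA g := fun q hq =>
      mem_lowA.2 ⟨q, hq, by rw [sub_self]; exact Ideal.zero_mem _⟩
    rcases Nat.eq_zero_or_pos i with rfl | hi1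
    · have : xv g 0 (2 * ((0 : ℕ) : ℤ)) = (g : RelRing g) := by
        simpa using xv_zero_zero g
      rw [this]
      exact (lowA g).natCast_mem g
    by_cases h3 : 3 * i ≤ g
    · apply hadj
      apply Algebra.subset_adjoin
      right
      exact ⟨i, hi1, h3, rfl⟩
    by_cases hr : Valid g (0, 2 * i)
    swap
    · have : xv g 0 (2 * (i : ℤ)) = 0 := by
        unfold xv
        rw [if_neg (by omega), dif_neg]
        rintro ⟨_, _, h⟩
        apply hr
        have h4 : (2 * (i : ℤ)).toNat = 2 * i := by omega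
        rwa [h4] at h
      rw [this]
      exact (lowA g).zero_mem
    have hi : i + 1 ≤ g := by
      have := hr.2.1
      simp only at this
      omega
    have hg : 2 ≤ g := by omega
    have hxv : ∀ (j : ℕ) (hj : Valid g (0, 2 * j)), xv g 0 (2 * (j : ℤ)) = X (some ⟨(0, 2 * j), hj⟩) := by
      intro j hj
      have := xv_of_valid g 0 (2 * j) hj
      push_cast at this
      exact this
    set Φ := (F g)^[3 * i]
      (MvPolynomial.monomial (Finsupp.single (some ⟨(3, 1), valid31 hg⟩) (2 * i)) 1) with hΦ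
    have hw : Finsupp.weight (wt g) (Finsupp.single (some ⟨(3, 1), valid31 hg⟩) (2 * i)) =
        (6 * i, 2 * i) := by
      rw [Finsupp.weight_single]
      simp only [wt, Prod.smul_mk, smul_eq_mul]
      exact Prod.ext (by simp only; ring) (by simp only; ring)
    have hΦrel : Φ ∈ relIdeal g :=
      Ideal.subset_span ⟨_, 3 * i, by rw [hw]; simp only; omega, rfl⟩
    have hΦA : Φ ∈ lowA g := mem_lowA.2 ⟨0, Subalgebra.zero_mem _, by rwa [sub_zero]⟩
    have hΦhom : IsWeightedHomogeneous (wt g) Φ ((0, 2 * i) : ℕ × ℕ) := by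
      rw [hom_iff]
      have h5 : IsWeightedHomogeneous (wz g)
          (MvPolynomial.monomial (Finsupp.single (some ⟨(3, 1), valid31 hg⟩) (2 * i)) (1 : ℚ))
          (((6 * i : ℕ) : ℤ), ((2 * i : ℕ) : ℤ)) := by
        apply isWeightedHomogeneous_monomial
        rw [weight_wz, hw]
      have h6 := F_iter_hom g h5 (3 * i)
      have h7 : ((((6 * i : ℕ) : ℤ), ((2 * i : ℕ) : ℤ)) : ℤ × ℤ) - (2 * ((3 * i : ℕ) : ℤ), 0) =
          (((0 : ℕ) : ℤ), ((2 * i : ℕ) : ℤ)) := by
        simp only [Prod.mk_sub_mk, sub_zero]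
        congr 1
        push_cast
        ring
      rw [h7] at h6
      exact h6
    have hy : (X none : RelRing g) ∈ lowA g := hadj _ (Algebra.subset_adjoin (Or.inl rfl))
    have h8 := sub_mem_adjoin i hi1 hr Φ hΦhom (lowA g) hy (fun j hj _ hji => by
      rw [← hxv j hj]
      exact ih j hji)
    have h9 : coeff (Finsupp.single (some ⟨(0, 2 * i), hr⟩) 1) Φ • X (some ⟨(0, 2 * i), hr⟩) ∈ lowA g := by
      have := (lowA g).sub_mem hΦA h8
      rwa [sub_sub_cancel] at this
    have h10 := (lowA g).smul_mem h9 (coeff (Finsupp.single (some ⟨(0, 2 * i), hr⟩) 1) Φ)⁻¹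
    rw [smul_smul, inv_mul_cancel₀ (coeff_ne_zero hg i hi1 hi hr), one_smul] at h10
    rw [hxv i hr]
    exact h10

end K885.Taut
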