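import Groth.Prelude.Def_W4c3tautjacobianRel
import Mathlib.RingTheory.MvPolynomial.EulerIdentity
import Mathlib.Tactic

/-! The operator `F` on the formal relation ring: linearity, degrees, commutation with `E`. -/

set_option autoImplicit false

open MvPolynomial W4c3tautjacobian

namespace K885.Taut

variable (g : ℕ)

/-- `dv` as a derivation. -/
noncomputable def dD (p : ℕ × ℕ) : Derivation ℚ (RelRing g) (RelRing g) :=
  if h : Valid g p then pderiv (some ⟨p, h⟩) else 0

theorem dv_eq (p : ℕ × ℕ) (P : RelRing g) : dv g p P = dD g p P := by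
  unfold dv dD
  split_ifs <;> simp

theorem dD_of_valid (p : ℕ × ℕ) (h : Valid g p) : dD g p = pderiv (some ⟨p, h⟩) := by
  rw [dD, dif_pos h]

theorem dD_of_not_valid (p : ℕ × ℕ) (h : ¬ Valid g p) : dD g p = 0 := by
  rw [dD, dif_neg h]

/-- second order coefficient -/
noncomputable def cA (p q : ℕ × ℕ) : RelRing g :=
  X none * xv g ((p.1 : ℤ) - 1) ((p.2 : ℤ) - 1) * xv g ((q.1 : ℤ) - 1) ((q.2 : ℤ) - 1)
    - (mergeCoeff p.1 q.1 : RelRing g) * xv g ((p.1 : ℤ) + q.1 - 2) ((p.2 : ℤ) + q.2)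

/-- first order coefficient -/
noncomputable def cB (p : ℕ × ℕ) : RelRing g := xv g ((p.1 : ℤ) - 2) (p.2 : ℤ)

theorem F_apply (P : RelRing g) : F g P =
    (1 / 2 : ℚ) • (∑ p ∈ idx g, ∑ q ∈ idx g, cA g p q * dD g p (dD g q P))
      + ∑ p ∈ idx g, cB g p * dD g p P := by
  simp only [F, dv_eq, cA, cB]

theorem mergeCoeff_comm (i k : ℕ) : mergeCoeff i k = mergeCoeff k i := by
  unfold mergeCoeff
  by_cases h : i = 0 ∨ k = 0
  · rw [if_pos h, if_pos h.symm]
  · rw [if_neg h, if_neg (fun h' => h h'.symm), add_comm k i]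
    push Not at h
    apply Nat.choose_symm_of_eq_add
    omega

theorem cA_comm (p q : ℕ × ℕ) : cA g p q = cA g q p := by
  simp only [cA, mergeCoeff_comm p.1 q.1]
  rw [show (p.1 : ℤ) + q.1 - 2 = (q.1 : ℤ) + p.1 - 2 by ring,
    show (p.2 : ℤ) + q.2 = (q.2 : ℤ) + p.2 by ring]
  ring

theorem F_add (P Q : RelRing g) : F g (P + Q) = F g P + F g Q := by
  simp only [F_apply, map_add, mul_add, Finset.sum_add_distrib, smul_add]
  abel

theorem F_smul (c : ℚ) (P : RelRing g) : F g (c • P) = c • F g P := by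
  simp only [F_apply, Derivation.map_smul, mul_smul_comm, ← Finset.smul_sum, smul_add,
    smul_comm (1 / 2 : ℚ) c]

/-- `F` as a linear map. -/
noncomputable def FL : RelRing g →ₗ[ℚ] RelRing g where
  toFun := F g
  map_add' := F_add g
  map_smul' := F_smul g

theorem FL_apply (P : RelRing g) : FL g P = F g P := rfl

theorem F_zero : F g 0 = 0 := (FL g).map_zero

theorem F_iter (n : ℕ) (P : RelRing g) : (F g)^[n] P = (FL g ^ n) P := by
  rw [Module.End.pow_apply]
  rfl

theorem F_iter_zero (n : ℕ) : (F g)^[n] 0 = 0 := by rw [F_iter, map_zero]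

theorem F_sum {ι : Type*} (s : Finset ι) (f : ι → RelRing g) :
    F g (∑ i ∈ s, f i) = ∑ i ∈ s, F g (f i) := map_sum (FL g) f s

/-- Leibniz rule for `F`. -/
theorem F_mul (a b : RelRing g) : F g (a * b) = a * F g b + b * F g a +
    ∑ p ∈ idx g, ∑ q ∈ idx g, cA g p q * (dD g p a * dD g q b) := by
  have h1 : ∀ p q, cA g p q * dD g p (dD g q (a * b)) =
      a * (cA g p q * dD g p (dD g q b)) + b * (cA g p q * dD g p (dD g q a)) +
      (cA g p q * (dD g p a * dD g q b) + cA g p q * (dD g q a * dD g p b)) := by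
    intro p q
    simp only [Derivation.leibniz, smul_eq_mul, map_add]
    ring
  have h2 : ∀ p, cB g p * dD g p (a * b) = a * (cB g p * dD g p b) + b * (cB g p * dD g p a) := by
    intro p
    simp only [Derivation.leibniz, smul_eq_mul]
    ring
  have h3 : ∑ p ∈ idx g, ∑ q ∈ idx g, cA g p q * (dD g q a * dD g p b) =
      ∑ p ∈ idx g, ∑ q ∈ idx g, cA g p q * (dD g p a * dD g q b) := by
    rw [Finset.sum_comm]
    refine Finset.sum_congr rfl fun p _ => Finset.sum_congr rfl fun q _ => ?_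
    rw [cA_comm]
  simp only [F_apply, h1, h2, Finset.sum_add_distrib, ← Finset.mul_sum, h3, smul_add, mul_add]
  set T := ∑ p ∈ idx g, ∑ q ∈ idx g, cA g p q * (dD g p a * dD g q b)
  have h4 : (1 / 2 : ℚ) • T + (1 / 2 : ℚ) • T = T := by
    rw [← add_smul]; norm_num
  simp only [← mul_smul_comm]
  linear_combination h4

/-! ### the variables -/

theorem xv_of_valid (i j : ℕ) (h : Valid g (i, j)) : xv g i j = X (some ⟨(i, j), h⟩) := by
  unfold xv
  rw [if_neg, dif_pos]
  · rfl
  · exact ⟨by omega, by omega, h⟩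
  · rintro ⟨h1, h2⟩
    apply h.2.2.2
    have : i = 0 := by exact_mod_cast h1
    have : j = 0 := by exact_mod_cast h2
    simp [*]

theorem xv_zero_zero : xv g 0 0 = (g : RelRing g) := by
  unfold xv
  rw [if_pos ⟨rfl, rfl⟩]

theorem xv_neg_left (i j : ℤ) (h : i < 0) : xv g i j = 0 := by
  unfold xv
  rw [if_neg (by omega), dif_neg (by omega)]

theorem xv_neg_right (i j : ℤ) (h : j < 0) : xv g i j = 0 := by
  unfold xv
  rw [if_neg (by omega), dif_neg (by omega)]

theorem mem_idx_of_valid (p : ℕ × ℕ) (h : Valid g p) : p ∈ idx g := by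
  obtain ⟨h1, h2, h3, h4⟩ := h
  simp only [idx, Finset.mem_product, Finset.mem_range]
  omega

/-- integral bidegree weights -/
def wz (v : Var g) : ℤ × ℤ := (((wt g v).1 : ℤ), ((wt g v).2 : ℤ))

theorem xv_hom (i j : ℤ) : IsWeightedHomogeneous (wz g) (xv g i j) ((i, j) : ℤ × ℤ) := by
  unfold xv
  split_ifs with h h'
  · obtain ⟨rfl, rfl⟩ := h
    have : (g : RelRing g) = C (g : ℚ) := by simp
    rw [this]
    exact isWeightedHomogeneous_C _ _
  · have h1 := isWeightedHomogeneous_X ℚ (wz g) (some ⟨(i.toNat, j.toNat), h'.2.2⟩)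
    have h2 : wz g (some ⟨(i.toNat, j.toNat), h'.2.2⟩) = (i, j) := by
      simp only [wz, wt]
      rw [Int.toNat_of_nonneg h'.1, Int.toNat_of_nonneg h'.2.1]
    rwa [h2] at h1
  · exact isWeightedHomogeneous_zero _ _ _

theorem dD_hom (p : ℕ × ℕ) {P : RelRing g} {n : ℤ × ℤ} (h : IsWeightedHomogeneous (wz g) P n) :
    IsWeightedHomogeneous (wz g) (dD g p P) (n - ((p.1 : ℤ), (p.2 : ℤ))) := by
  by_cases hp : Valid g p
  · rw [dD_of_valid g p hp]
    refine IsWeightedHomogeneous.pderiv h ?_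
    simp [wz, wt]
  · rw [dD_of_not_valid g p hp]
    exact isWeightedHomogeneous_zero _ _ _

theorem cA_hom (p q : ℕ × ℕ) : IsWeightedHomogeneous (wz g) (cA g p q)
    ((p.1 : ℤ) + q.1 - 2, (p.2 : ℤ) + q.2) := by
  unfold cA
  apply IsWeightedHomogeneous.sub
  · have h1 := isWeightedHomogeneous_X ℚ (wz g) (none : Var g)
    have h2 := (h1.mul (xv_hom g ((p.1 : ℤ) - 1) ((p.2 : ℤ) - 1))).mul
      (xv_hom g ((q.1 : ℤ) - 1) ((q.2 : ℤ) - 1))
    have h3 : wz g none + ((p.1 : ℤ) - 1, (p.2 : ℤ) - 1) + ((q.1 : ℤ) - 1, (q.2 : ℤ) - 1) =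
        ((p.1 : ℤ) + q.1 - 2, (p.2 : ℤ) + q.2) := by
      simp only [wz, wt, Prod.mk_add_mk]
      push_cast
      congr 1 <;> ring
    rwa [h3] at h2
  · have h1 : (mergeCoeff p.1 q.1 : RelRing g) = C (mergeCoeff p.1 q.1 : ℚ) := by simp
    rw [h1]
    exact (xv_hom g _ _).C_mul _

theorem cB_hom (p : ℕ × ℕ) : IsWeightedHomogeneous (wz g) (cB g p) ((p.1 : ℤ) - 2, (p.2 : ℤ)) :=
  xv_hom g _ _

theorem smul_hom {P : RelRing g} {n : ℤ × ℤ} (h : IsWeightedHomogeneous (wz g) P n) (c : ℚ) :
    IsWeightedHomogeneous (wz g) (c • P) n :=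
  (weightedHomogeneousSubmodule ℚ (wz g) n).smul_mem c h

theorem F_hom {P : RelRing g} {n : ℤ × ℤ} (h : IsWeightedHomogeneous (wz g) P n) :
    IsWeightedHomogeneous (wz g) (F g P) (n - (2, 0)) := by
  rw [F_apply]
  apply IsWeightedHomogeneous.add
  · apply smul_hom
    apply IsWeightedHomogeneous.sum
    intro p _
    apply IsWeightedHomogeneous.sum
    intro q _
    have h1 := (cA_hom g p q).mul (dD_hom g p (dD_hom g q h))
    have h2 : ((p.1 : ℤ) + q.1 - 2, (p.2 : ℤ) + q.2) + (n - ((q.1 : ℤ), (q.2 : ℤ)) -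
        ((p.1 : ℤ), (p.2 : ℤ))) = n - (2, 0) := by
      obtain ⟨n1, n2⟩ := n
      simp only [Prod.mk_add_mk, Prod.mk_sub_mk, sub_zero]
      congr 1 <;> ring
    rwa [h2] at h1
  · apply IsWeightedHomogeneous.sum
    intro p _
    have h1 := (cB_hom g p).mul (dD_hom g p h)
    have h2 : ((p.1 : ℤ) - 2, (p.2 : ℤ)) + (n - ((p.1 : ℤ), (p.2 : ℤ))) = n - (2, 0) := by
      obtain ⟨n1, n2⟩ := n
      simp only [Prod.mk_add_mk, Prod.mk_sub_mk, sub_zero]
      congr 1 <;> ring
    rwa [h2] at h1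

theorem F_iter_hom {P : RelRing g} {n : ℤ × ℤ} (h : IsWeightedHomogeneous (wz g) P n) (k : ℕ) :
    IsWeightedHomogeneous (wz g) ((F g)^[k] P) (n - (2 * (k : ℤ), 0)) := by
  induction k with
  | zero =>
    have h1 : n - (2 * ((0 : ℕ) : ℤ), 0) = n := by ext <;> simp
    rw [h1]
    exact h
  | succ k ih =>
    rw [Function.iterate_succ_apply']
    have h1 := F_hom g ih
    have h2 : n - (2 * (k : ℤ), 0) - (2, 0) = n - (2 * ((k + 1 : ℕ) : ℤ), 0) := by
      obtain ⟨n1, n2⟩ := n
      simp only [Prod.mk_sub_mk, sub_zero]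
      congr 1
      push_cast
      ring
    rwa [h2] at h1

theorem weight_wz (d : Var g →₀ ℕ) : Finsupp.weight (wz g) d =
    (((Finsupp.weight (wt g) d).1 : ℤ), ((Finsupp.weight (wt g) d).2 : ℤ)) := by
  simp only [Finsupp.weight_apply, Finsupp.sum, Prod.fst_sum, Prod.snd_sum, Nat.cast_sum]
  ext
  · simp [Prod.fst_sum, wz]
  · simp [Prod.snd_sum, wz]

theorem hom_iff {P : RelRing g} {n : ℕ × ℕ} : IsWeightedHomogeneous (wt g) P n ↔
    IsWeightedHomogeneous (wz g) P (((n.1 : ℤ), (n.2 : ℤ)) : ℤ × ℤ) := by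
  constructor
  · intro h d hd
    rw [weight_wz, h hd]
  · intro h d hd
    have h1 := h hd
    rw [weight_wz] at h1
    have h2 := congrArg Prod.fst h1
    have h3 := congrArg Prod.snd h1
    simp only at h2 h3
    exact Prod.ext (by exact_mod_cast h2) (by exact_mod_cast h3)

theorem eq_zero_of_neg {P : RelRing g} {n : ℤ × ℤ} (h : IsWeightedHomogeneous (wz g) P n)
    (hn : n.1 < 0) : P = 0 := by
  ext d
  rw [coeff_zero]
  by_contra hd
  have h1 := h hd
  rw [weight_wz] at h1
  rw [← h1] at hn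
  simp only at hn
  omega

/-- The Euler identity in the first degree. -/
theorem euler {P : RelRing g} {n : ℤ × ℤ} (h : IsWeightedHomogeneous (wz g) P n) :
    ∑ q ∈ idx g, (q.1 : RelRing g) * (xv g q.1 q.2 * dD g q P) = C (n.1 : ℚ) * P := by
  classical
  have hmon : ∀ (d : Var g →₀ ℕ) (c : ℚ), ∑ q ∈ idx g, (q.1 : RelRing g) *
      (xv g q.1 q.2 * dD g q (monomial d c)) =
      C (((Finsupp.weight (wt g) d).1 : ℕ) : ℚ) * monomial d c := by
    intro d c
    have h1 : ∀ q ∈ idx g, (q.1 : RelRing g) * (xv g q.1 q.2 * dD g q (monomial d c)) =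
        C ((if h : Valid g q then (d (some ⟨q, h⟩) * q.1 : ℕ) else 0 : ℕ) : ℚ) * monomial d c := by
      intro q _
      by_cases hq : Valid g q
      · rw [dif_pos hq, dD_of_valid g q hq, xv_of_valid g q.1 q.2 hq]
        rw [X_mul_pderiv_monomial]
        push_cast
        rw [map_mul, nsmul_eq_mul]
        simp only [map_natCast]
        ring
      · rw [dif_neg hq, dD_of_not_valid g q hq]
        simp
    rw [Finset.sum_congr rfl h1, ← Finset.sum_mul, ← map_sum, ← Nat.cast_sum]
    congr 3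
    rw [Finsupp.weight_apply, Finsupp.sum, Prod.fst_sum]
    have h2 : ∀ v ∈ d.support, (d v • wt g v).1 = match v with
      | none => 0
      | some p => d (some p) * p.1.1 := by
      intro v _
      cases v <;> simp [wt]
    rw [Finset.sum_congr rfl h2]
    symm
    have h3 : ∑ v ∈ d.support, (match v with
      | none => 0
      | some p => d (some p) * p.1.1) =
      ∑ v ∈ d.support.filter (fun v => v ≠ none), (match v with
      | none => 0
      | some p => d (some p) * p.1.1) := by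
      symm
      apply Finset.sum_filter_of_ne
      intro v _ hv hv'
      rw [hv'] at hv
      exact hv rfl
    rw [h3]
    refine Finset.sum_bij_ne_zero (fun v _ _ => (wt g v)) ?_ ?_ ?_ ?_
    · intro v hv _
      cases v with
      | none => simp at hv
      | some p => exact mem_idx_of_valid g _ p.2
    · intro v hv _ v' hv' _ hvv'
      cases v with
      | none => simp at hv
      | some p =>
        cases v' with
        | none => simp at hv'
        | some p' => exact congrArg some (Subtype.ext hvv')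
    · intro q hq hq0
      by_cases hq' : Valid g q
      · rw [dif_pos hq'] at hq0
        refine ⟨some ⟨q, hq'⟩, ?_, hq0, rfl⟩
        simp only [ne_eq, Finset.mem_filter, Finsupp.mem_support_iff, reduceCtorEq,
          not_false_eq_true, and_true]
        intro h0
        rw [h0, zero_mul] at hq0
        exact hq0 rfl
      · rw [dif_neg hq'] at hq0
        exact absurd rfl hq0
    · intro v hv _
      cases v with
      | none => simp at hv
      | some p =>
        have hp : Valid g (wt g (some p)) := p.2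
        rw [dif_pos hp]
        rfl
  conv_lhs => rw [P.as_sum]
  conv_rhs => rw [P.as_sum]
  simp only [map_sum, Finset.mul_sum]
  rw [Finset.sum_comm]
  refine Finset.sum_congr rfl fun d hd => ?_
  rw [hmon]
  have h4 := h (mem_support_iff.1 hd)
  rw [weight_wz] at h4
  rw [← h4]
  simp

/-- The commutation relation of `F` and `E`. -/
theorem F_E (hg : 1 ≤ g) {P : RelRing g} {n : ℤ × ℤ} (h : IsWeightedHomogeneous (wz g) P n) :
    F g (E g P) = E g (F g P) + C ((g : ℚ) - n.1) * P := by
  have hv : Valid g (2, 0) := ⟨by simp, by simp; omega, by simp, by simp⟩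
  have hx : xv g 2 0 = X (some ⟨(2, 0), hv⟩) := xv_of_valid g 2 0 hv
  have hd : ∀ p, dD g p (xv g 2 0) = if p = (2, 0) then 1 else 0 := by
    intro p
    rw [hx]
    by_cases hp : Valid g p
    · rw [dD_of_valid g p hp]
      split_ifs with h1
      · subst h1
        exact pderiv_X_self _
      · apply pderiv_X_of_ne
        intro h2
        apply h1
        have := Option.some.inj h2
        exact (congrArg Subtype.val this).symm
    · rw [dD_of_not_valid g p hp, if_neg]
      · rfl
      · rintro rfl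
        exact hp hv
  have hdd : ∀ p q, dD g p (dD g q (xv g 2 0)) = 0 := by
    intro p q
    rw [hd]
    split_ifs <;> simp
  have hmem : ((2, 0) : ℕ × ℕ) ∈ idx g := mem_idx_of_valid g _ hv
  have hFx : F g (xv g 2 0) = (g : RelRing g) := by
    rw [F_apply]
    simp only [hdd, mul_zero, Finset.sum_const_zero, smul_zero, zero_add]
    simp only [hd, mul_ite, mul_one, mul_zero]
    rw [Finset.sum_ite_eq' (idx g) (2, 0), if_pos hmem, cB]
    exact xv_zero_zero g
  have hA : ∀ q : ℕ × ℕ, cA g (2, 0) q = -((q.1 : RelRing g) * xv g q.1 q.2) := by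
    intro q
    have h1 : mergeCoeff 2 q.1 = q.1 := by
      unfold mergeCoeff
      by_cases hq : q.1 = 0
      · rw [if_pos (Or.inr hq), hq]
      · rw [if_neg (by omega)]
        simp
    simp only [cA]
    rw [xv_neg_right g (((2 : ℕ) : ℤ) - 1) (((0 : ℕ) : ℤ) - 1) (by simp), h1]
    have h2 : ((2 : ℕ) : ℤ) + q.1 - 2 = q.1 := by push_cast; ring
    have h3 : ((0 : ℕ) : ℤ) + (q.2 : ℤ) = q.2 := by push_cast; ring
    rw [h2, h3]
    ring
  rw [E, E, F_mul, hFx]
  have h5 : ∑ p ∈ idx g, ∑ q ∈ idx g, cA g p q * (dD g p (xv g 2 0) * dD g q P) =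
      -(C (n.1 : ℚ) * P) := by
    rw [← euler g h, ← Finset.sum_neg_distrib, Finset.sum_eq_single (2, 0)]
    · refine Finset.sum_congr rfl fun q _ => ?_
      rw [hd, if_pos rfl, hA]
      ring
    · intro p _ hp
      refine Finset.sum_eq_zero fun q _ => ?_
      rw [hd, if_neg hp]
      ring
    · intro h
      exact absurd hmem h
  rw [h5, map_sub]
  have h6 : (C (g : ℚ) : RelRing g) = (g : RelRing g) := by simp
  rw [h6]
  ring

theorem E_hom {P : RelRing g} {n : ℤ × ℤ} (h : IsWeightedHomogeneous (wz g) P n) :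
    IsWeightedHomogeneous (wz g) (E g P) (n + (2, 0)) := by
  have h1 := (xv_hom g 2 0).mul h
  rw [add_comm] at h1
  exact h1

/-- Iterated commutation: `F^m E P = E F^m P + m (g - i + m - 1) F^(m-1) P`. -/
theorem F_iter_E (hg : 1 ≤ g) {P : RelRing g} {n : ℤ × ℤ} (h : IsWeightedHomogeneous (wz g) P n)
    (m : ℕ) : (F g)^[m + 1] (E g P) = E g ((F g)^[m + 1] P) +
      C (((m : ℚ) + 1) * ((g : ℚ) - n.1 + m)) * (F g)^[m] P := by
  induction m with
  | zero =>
    simp only [zero_add, Function.iterate_one, Function.iterate_zero, id]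
    rw [F_E g hg h]
    simp
  | succ m ih =>
    rw [Function.iterate_succ_apply', ih, F_add, F_E g hg (F_iter_hom g h (m + 1)),
      ← Function.iterate_succ_apply' (F g) (m + 1) P]
    have h1 : F g (C (((m : ℚ) + 1) * ((g : ℚ) - n.1 + m)) * (F g)^[m] P) =
        C (((m : ℚ) + 1) * ((g : ℚ) - n.1 + m)) * (F g)^[m + 1] P := by
      rw [C_mul', F_smul, C_mul', Function.iterate_succ_apply' (F g) m P]
    rw [h1, add_assoc, ← add_mul, ← map_add]
    congr 3
    simp only [Prod.fst_sub]
    push_cast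
    ring

end K885.Taut
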