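import Groth.Agent.W4c3tautjacobian.K885.Basic
import Mathlib.RingTheory.Ideal.Quotient.Operations

/-! A positivity argument and the low generators. -/

set_option autoImplicit false

open MvPolynomial W4c3tautjacobian

namespace K885.Taut

variable (g : ℕ)

/-- sign of a monomial -/
noncomputable def sg {g : ℕ} (d : Var g →₀ ℕ) : ℚ := (-1) ^ (Finsupp.degree d)

theorem sg_add_single {g : ℕ} (d : Var g →₀ ℕ) (v : Var g) : sg (d + Finsupp.single v 1) = - sg d := by
  rw [sg, sg, map_add, Finsupp.degree_single, pow_succ]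
  ring

theorem sg_sq {g : ℕ} (d : Var g →₀ ℕ) : sg d * sg d = 1 := by
  rw [sg, ← mul_pow]
  norm_num

/-- The positivity cone: modulo `y`, no occurrence of `x 2 0` and alternating signs. -/
structure InP (hv : Valid g (2, 0)) (P : RelRing g) : Prop where
  sgn : ∀ d : Var g →₀ ℕ, d none = 0 → d (some ⟨(2, 0), hv⟩) = 0 → 0 ≤ sg d * coeff d P
  van : ∀ d : Var g →₀ ℕ, d none = 0 → d (some ⟨(2, 0), hv⟩) ≠ 0 → coeff d P = 0

variable {g} {hv : Valid g (2, 0)}

theorem InP.add {P Q : RelRing g} (hP : InP g hv P) (hQ : InP g hv Q) : InP g hv (P + Q) where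
  sgn d h1 h2 := by
    rw [coeff_add, mul_add]
    exact add_nonneg (hP.sgn d h1 h2) (hQ.sgn d h1 h2)
  van d h1 h2 := by rw [coeff_add, hP.van d h1 h2, hQ.van d h1 h2, add_zero]

theorem InP.zero : InP g hv 0 where
  sgn d _ _ := by simp
  van d _ _ := by simp

theorem InP.smul {P : RelRing g} (hP : InP g hv P) (c : ℚ) (hc : 0 ≤ c) : InP g hv (c • P) where
  sgn d h1 h2 := by
    rw [coeff_smul, smul_eq_mul]
    have := mul_nonneg hc (hP.sgn d h1 h2)
    linarith
  van d h1 h2 := by rw [coeff_smul, hP.van d h1 h2, smul_zero]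

theorem InP.sum {ι : Type*} {s : Finset ι} {f : ι → RelRing g} (h : ∀ i ∈ s, InP g hv (f i)) :
    InP g hv (∑ i ∈ s, f i) := by
  classical
  induction s using Finset.induction_on with
  | empty => simpa using InP.zero
  | insert a s ha ih =>
    rw [Finset.sum_insert ha]
    exact (h a (Finset.mem_insert_self _ _)).add (ih fun i hi => h i (Finset.mem_insert_of_mem hi))

theorem InP.yMul (Q : RelRing g) : InP g hv (X none * Q) := by
  classical
  have h : ∀ d : Var g →₀ ℕ, d none = 0 → coeff d (X none * Q) = 0 := by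
    intro d hd
    rw [coeff_X_mul', if_neg]
    rw [Finsupp.mem_support_iff]
    exact fun h => h hd
  exact ⟨fun d h1 _ => by rw [h d h1, mul_zero], fun d h1 _ => h d h1⟩

theorem InP.monomial (e : Var g →₀ ℕ) (c : ℚ) (he : e (some ⟨(2, 0), hv⟩) = 0) (hc : 0 ≤ sg e * c) :
    InP g hv (monomial e c) := by
  classical
  refine ⟨fun d _ _ => ?_, fun d _ h2 => ?_⟩
  · rw [coeff_monomial]
    split_ifs with h
    · rw [← h]; exact hc
    · rw [mul_zero]
  · rw [coeff_monomial, if_neg]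
    rintro rfl
    exact h2 he

/-- the merging term -/
noncomputable def T2 (d : Var g →₀ ℕ) (c : ℚ) (p q : ℕ × ℕ) : RelRing g :=
  -((mergeCoeff p.1 q.1 : RelRing g) * xv g ((p.1 : ℤ) + q.1 - 2) ((p.2 : ℤ) + q.2)
    * dD g p (dD g q (MvPolynomial.monomial d c)))

theorem valid_snd_pos {p : ℕ × ℕ} (h : Valid g p) (hne : p ≠ (2, 0)) : 1 ≤ p.2 := by
  obtain ⟨i, j⟩ := p
  obtain ⟨h1, h2, h3, h4⟩ := h
  simp only at h1 h2 h3 h4 ⊢
  rcases Nat.eq_zero_or_pos j with hj | hj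
  · subst hj
    have hi : i = 2 := by
      rcases Nat.lt_or_ge i 2 with h | h
      · interval_cases i
        · exact absurd rfl h4
        · simp at h3
      · omega
    subst hi
    exact absurd rfl hne
  · exact hj

theorem dD_monomial (p : ℕ × ℕ) (h : Valid g p) (d : Var g →₀ ℕ) (c : ℚ) :
    dD g p (MvPolynomial.monomial d c) =
      MvPolynomial.monomial (d - Finsupp.single (some ⟨p, h⟩) 1) (c * d (some ⟨p, h⟩)) := by
  rw [dD_of_valid g p h, pderiv_monomial]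

theorem T2_eq (e : Var g →₀ ℕ) (c : ℚ) (p q r : ℕ × ℕ) (hp : Valid g p) (hq : Valid g q)
    (hr : Valid g r) (hr1 : p.1 + q.1 = r.1 + 2) (hr2 : r.2 = p.2 + q.2) :
    T2 (e + Finsupp.single (some ⟨p, hp⟩) 1 + Finsupp.single (some ⟨q, hq⟩) 1) c p q =
      MvPolynomial.monomial (e + Finsupp.single (some ⟨r, hr⟩) 1)
        (-((mergeCoeff p.1 q.1 : ℚ) * (c *
          ((e + Finsupp.single (some ⟨p, hp⟩) 1 + Finsupp.single (some ⟨q, hq⟩) 1 : Var g →₀ ℕ)
            (some ⟨q, hq⟩)) * ((e + Finsupp.single (some ⟨p, hp⟩) 1 : Var g →₀ ℕ) (some ⟨p, hp⟩))))) := by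
  have hx : xv g ((p.1 : ℤ) + q.1 - 2) ((p.2 : ℤ) + q.2) = X (some ⟨r, hr⟩) := by
    have h1 : (p.1 : ℤ) + q.1 - 2 = (r.1 : ℤ) := by omega
    have h2 : (p.2 : ℤ) + q.2 = (r.2 : ℤ) := by omega
    rw [h1, h2]
    exact xv_of_valid g r.1 r.2 hr
  rw [T2, hx, dD_monomial q hq, add_tsub_cancel_right, dD_monomial p hp, add_tsub_cancel_right]
  have h3 : (mergeCoeff p.1 q.1 : RelRing g) = C (mergeCoeff p.1 q.1 : ℚ) := by simp
  rw [h3, X, C_mul_monomial, monomial_mul, mul_one, add_comm (Finsupp.single _ 1) e, ← map_neg]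

theorem T2_inP (d : Var g →₀ ℕ) (c : ℚ) (h20 : d (some ⟨(2, 0), hv⟩) = 0) (hc : 0 ≤ sg d * c)
    (p q : ℕ × ℕ) : InP g hv (T2 d c p q) := by
  by_cases hq : Valid g q
  swap
  · rw [T2, dD_of_not_valid g q hq]
    simpa using InP.zero
  by_cases hp : Valid g p
  swap
  · rw [T2, dD_of_not_valid g p hp]
    simpa using InP.zero
  by_cases hmc : mergeCoeff p.1 q.1 = 0
  · rw [T2, hmc]
    simpa using InP.zero
  have hpq : 1 ≤ p.1 ∧ 1 ≤ q.1 := by
    unfold mergeCoeff at hmc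
    by_contra h
    apply hmc
    rw [if_pos]
    omega
  by_cases hdq : d (some ⟨q, hq⟩) = 0
  · rw [T2, dD_monomial q hq, hdq]
    simpa using InP.zero
  by_cases hdp : (d - Finsupp.single (some ⟨q, hq⟩) 1 : Var g →₀ ℕ) (some ⟨p, hp⟩) = 0
  · rw [T2, dD_monomial q hq, dD_monomial p hp, hdp]
    simpa using InP.zero
  -- write `d = e + p + q`
  obtain ⟨e, he⟩ : ∃ e, d = e + Finsupp.single (some ⟨p, hp⟩) 1 + Finsupp.single (some ⟨q, hq⟩) 1 := by
    refine ⟨d - Finsupp.single (some ⟨q, hq⟩) 1 - Finsupp.single (some ⟨p, hp⟩) 1, ?_⟩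
    rw [tsub_add_cancel_of_le, tsub_add_cancel_of_le]
    · rw [Finsupp.single_le_iff]; omega
    · rw [Finsupp.single_le_iff]; omega
  have hp2 : p ≠ (2, 0) := by
    rintro rfl
    rw [he] at h20
    simp at h20
  have hq2 : q ≠ (2, 0) := by
    rintro rfl
    rw [he] at h20
    simp at h20
  have hp3 := valid_snd_pos hp hp2
  have hq3 := valid_snd_pos hq hq2
  by_cases hr : Valid g (p.1 + q.1 - 2, p.2 + q.2)
  swap
  · have hx : xv g ((p.1 : ℤ) + q.1 - 2) ((p.2 : ℤ) + q.2) = 0 := by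
      unfold xv
      rw [if_neg (by omega), dif_neg]
      rintro ⟨_, _, h3⟩
      apply hr
      have h4 : ((p.1 : ℤ) + q.1 - 2).toNat = p.1 + q.1 - 2 := by omega
      have h5 : ((p.2 : ℤ) + q.2).toNat = p.2 + q.2 := by omega
      rwa [h4, h5] at h3
    rw [T2, hx]
    simpa using InP.zero
  rw [he] at h20 hc ⊢
  rw [T2_eq e c p q (p.1 + q.1 - 2, p.2 + q.2) hp hq hr (by simp only; omega) rfl]
  apply InP.monomial
  · simp only [Finsupp.coe_add, Pi.add_apply] at h20 ⊢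
    rw [Finsupp.single_eq_of_ne]
    · omega
    · intro h
      have h1 := congrArg (fun v : Var g => (wt g v).2) h
      simp only [wt] at h1
      omega
  · rw [sg_add_single, sg_add_single, neg_neg] at hc
    rw [sg_add_single]
    have h6 : (0 : ℚ) ≤ (mergeCoeff p.1 q.1 : ℚ) := Nat.cast_nonneg _
    set A : ℕ := (e + Finsupp.single (some ⟨p, hp⟩) 1 + Finsupp.single (some ⟨q, hq⟩) 1 : Var g →₀ ℕ)
            (some ⟨q, hq⟩)
    set B : ℕ := (e + Finsupp.single (some ⟨p, hp⟩) 1 : Var g →₀ ℕ) (some ⟨p, hp⟩)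
    have hA : (0 : ℚ) ≤ A := Nat.cast_nonneg _
    have hB : (0 : ℚ) ≤ B := Nat.cast_nonneg _
    have : -sg e * -(↑(mergeCoeff p.1 q.1) * (c * A * B)) =
        (sg e * c) * (mergeCoeff p.1 q.1 * A * B) := by ring
    rw [this]
    positivity

/-- the lowering term -/
noncomputable def U1 (d : Var g →₀ ℕ) (c : ℚ) (p : ℕ × ℕ) : RelRing g :=
  cB g p * dD g p (MvPolynomial.monomial d c)

theorem U1_eq (e : Var g →₀ ℕ) (c : ℚ) (p r : ℕ × ℕ) (hp : Valid g p)
    (hr : Valid g r) (hr1 : p.1 = r.1 + 2) (hr2 : r.2 = p.2) :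
    U1 (e + Finsupp.single (some ⟨p, hp⟩) 1) c p =
      MvPolynomial.monomial (e + Finsupp.single (some ⟨r, hr⟩) 1)
        (c * ((e + Finsupp.single (some ⟨p, hp⟩) 1 : Var g →₀ ℕ) (some ⟨p, hp⟩))) := by
  have hx : cB g p = X (some ⟨r, hr⟩) := by
    rw [cB]
    have h1 : (p.1 : ℤ) - 2 = (r.1 : ℤ) := by omega
    have h2 : (p.2 : ℤ) = (r.2 : ℤ) := by omega
    rw [h1, h2]
    exact xv_of_valid g r.1 r.2 hr
  rw [U1, hx, dD_monomial p hp, add_tsub_cancel_right, X, monomial_mul, one_mul,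
    add_comm (Finsupp.single _ 1) e]

theorem U1_inP (d : Var g →₀ ℕ) (c : ℚ) (h20 : d (some ⟨(2, 0), hv⟩) = 0) (hc : 0 ≤ sg d * c)
    (p : ℕ × ℕ) : InP g hv (U1 d c p) := by
  by_cases hp : Valid g p
  swap
  · rw [U1, dD_of_not_valid g p hp]
    simpa using InP.zero
  by_cases hdp : d (some ⟨p, hp⟩) = 0
  · rw [U1, dD_monomial p hp, hdp]
    simpa using InP.zero
  obtain ⟨e, he⟩ : ∃ e, d = e + Finsupp.single (some ⟨p, hp⟩) 1 := by
    refine ⟨d - Finsupp.single (some ⟨p, hp⟩) 1, ?_⟩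
    rw [tsub_add_cancel_of_le]
    rw [Finsupp.single_le_iff]; omega
  have hp2 : p ≠ (2, 0) := by
    rintro rfl
    rw [he] at h20
    simp at h20
  have hp3 := valid_snd_pos hp hp2
  by_cases hr : 2 ≤ p.1 ∧ Valid g (p.1 - 2, p.2)
  swap
  · have hx : cB g p = 0 := by
      unfold cB xv
      rw [if_neg (by omega), dif_neg]
      rintro ⟨h2, _, h3⟩
      apply hr
      have h4 : ((p.1 : ℤ) - 2).toNat = p.1 - 2 := by omega
      have h5 : ((p.2 : ℤ)).toNat = p.2 := by omega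
      rw [h4, h5] at h3
      exact ⟨by omega, h3⟩
    rw [U1, hx]
    simpa using InP.zero
  rw [he] at h20 hc ⊢
  rw [U1_eq e c p (p.1 - 2, p.2) hp hr.2 (by simp only; omega) rfl]
  apply InP.monomial
  · simp only [Finsupp.coe_add, Pi.add_apply] at h20 ⊢
    rw [Finsupp.single_eq_of_ne]
    · omega
    · intro h
      have h1 := congrArg (fun v : Var g => (wt g v).2) h
      simp only [wt] at h1
      omega
  · rw [sg_add_single] at hc
    rw [sg_add_single]
    set B : ℕ := (e + Finsupp.single (some ⟨p, hp⟩) 1 : Var g →₀ ℕ) (some ⟨p, hp⟩)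
    have hB : (0 : ℚ) ≤ B := Nat.cast_nonneg _
    have : -sg e * (c * B) = (-sg e * c) * B := by ring
    rw [this]
    positivity

/-- the product term -/
noncomputable def Y2 (d : Var g →₀ ℕ) (c : ℚ) (p q : ℕ × ℕ) : RelRing g :=
  X none * (xv g ((p.1 : ℤ) - 1) ((p.2 : ℤ) - 1) * xv g ((q.1 : ℤ) - 1) ((q.2 : ℤ) - 1) *
    dD g p (dD g q (MvPolynomial.monomial d c)))

theorem F_monomial (d : Var g →₀ ℕ) (c : ℚ) : F g (MvPolynomial.monomial d c) =
    (∑ x ∈ idx g ×ˢ idx g, (1 / 2 : ℚ) • (Y2 d c x.1 x.2 + T2 d c x.1 x.2)) +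
      ∑ p ∈ idx g, U1 d c p := by
  rw [F_apply, ← Finset.smul_sum, Finset.sum_product]
  congr 2
  refine Finset.sum_congr rfl fun p _ => Finset.sum_congr rfl fun q _ => ?_
  rw [cA, Y2, T2]
  ring

theorem F_yMul (Q : RelRing g) : F g (X none * Q) = X none * F g Q := by
  have hd : ∀ p, dD g p (X none : RelRing g) = 0 := by
    intro p
    by_cases hp : Valid g p
    · rw [dD_of_valid g p hp]
      exact pderiv_X_of_ne (by simp)
    · rw [dD_of_not_valid g p hp]
      rfl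
  rw [F_mul]
  have h1 : F g (X none : RelRing g) = 0 := by
    rw [F_apply]
    simp [hd]
  rw [h1]
  simp [hd]

theorem F_monomial_inP (d : Var g →₀ ℕ) (c : ℚ) (h20 : d (some ⟨(2, 0), hv⟩) = 0)
    (hc : 0 ≤ sg d * c) : InP g hv (F g (MvPolynomial.monomial d c)) := by
  rw [F_monomial]
  refine InP.add (InP.sum fun x _ => ?_) (InP.sum fun p _ => U1_inP d c h20 hc p)
  exact ((InP.yMul _).add (T2_inP d c h20 hc _ _)).smul _ (by norm_num)

/-- `F` preserves the cone. -/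
theorem InP.F {P : RelRing g} (hP : InP g hv P) : InP g hv (F g P) := by
  rw [P.as_sum, F_sum]
  refine InP.sum fun d hd => ?_
  rw [mem_support_iff] at hd
  by_cases h0 : d none = 0
  · have h20 : d (some ⟨(2, 0), hv⟩) = 0 := by
      by_contra h
      exact hd (hP.van d h0 h)
    exact F_monomial_inP d _ h20 (hP.sgn d h0 h20)
  · have h1 : MvPolynomial.monomial d (coeff d P) =
        X none * MvPolynomial.monomial (d - Finsupp.single none 1) (coeff d P) := by
      rw [X, monomial_mul, one_mul, add_tsub_cancel_of_le]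
      rw [Finsupp.single_le_iff]; omega
    rw [h1, F_yMul]
    exact InP.yMul _

/-- `P` dominates the monomial `d`. -/
def Dom (hv : Valid g (2, 0)) (P : RelRing g) (d : Var g →₀ ℕ) : Prop :=
  ∃ c : ℚ, 0 < sg d * c ∧ InP g hv (P - MvPolynomial.monomial d c)

theorem Dom.merge {P : RelRing g} (e : Var g →₀ ℕ) (p q r : ℕ × ℕ) (hp : Valid g p)
    (hq : Valid g q) (hr : Valid g r) (hp1 : 1 ≤ p.1) (hq1 : 1 ≤ q.1)
    (hr1 : p.1 + q.1 = r.1 + 2) (hr2 : r.2 = p.2 + q.2)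
    (h20 : (e + Finsupp.single (some ⟨p, hp⟩) 1 + Finsupp.single (some ⟨q, hq⟩) 1 : Var g →₀ ℕ)
      (some ⟨(2, 0), hv⟩) = 0)
    (hP : Dom hv P (e + Finsupp.single (some ⟨p, hp⟩) 1 + Finsupp.single (some ⟨q, hq⟩) 1)) :
    Dom hv (F g P) (e + Finsupp.single (some ⟨r, hr⟩) 1) := by
  classical
  obtain ⟨c, hc, hcP⟩ := hP
  set d := e + Finsupp.single (some ⟨p, hp⟩) 1 + Finsupp.single (some ⟨q, hq⟩) 1 with hd
  have h1 : F g P = F g (P - MvPolynomial.monomial d c) + F g (MvPolynomial.monomial d c) := by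
    rw [← F_add, sub_add_cancel]
  have hT := T2_eq e c p q r hp hq hr hr1 hr2
  rw [← hd] at hT
  set A : ℕ := d (some ⟨q, hq⟩) with hA
  set B : ℕ := (e + Finsupp.single (some ⟨p, hp⟩) 1 : Var g →₀ ℕ) (some ⟨p, hp⟩) with hB
  have hA1 : 0 < A := by rw [hA, hd]; simp
  have hB1 : 0 < B := by rw [hB]; simp
  have hm : 0 < mergeCoeff p.1 q.1 := by
    unfold mergeCoeff
    rw [if_neg (by omega)]
    apply Nat.choose_pos
    omega
  set c' : ℚ := -((mergeCoeff p.1 q.1 : ℚ) * (c * A * B)) with hc'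
  refine ⟨(1 / 2 : ℚ) * c', ?_, ?_⟩
  · rw [sg_add_single]
    rw [hd, sg_add_single, sg_add_single, neg_neg] at hc
    have : -sg e * (1 / 2 * c') = (sg e * c) * (1 / 2 * (mergeCoeff p.1 q.1 * A * B)) := by
      rw [hc']; ring
    rw [this]
    have hm' : (0 : ℚ) < mergeCoeff p.1 q.1 := by exact_mod_cast hm
    have hA' : (0 : ℚ) < A := by exact_mod_cast hA1
    have hB' : (0 : ℚ) < B := by exact_mod_cast hB1
    positivity
  · have hmem : ((p, q) : (ℕ × ℕ) × (ℕ × ℕ)) ∈ idx g ×ˢ idx g :=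
      Finset.mem_product.2 ⟨mem_idx_of_valid g p hp, mem_idx_of_valid g q hq⟩
    rw [h1, F_monomial, ← Finset.add_sum_erase _ _ hmem]
    simp only [hT]
    have h2 : (MvPolynomial.monomial (e + Finsupp.single (some ⟨r, hr⟩) 1)) ((1 / 2 : ℚ) * c') =
        (1 / 2 : ℚ) • (MvPolynomial.monomial (e + Finsupp.single (some ⟨r, hr⟩) 1)) c' := by
      rw [smul_monomial, smul_eq_mul]
    rw [h2, smul_add]
    set M := (1 / 2 : ℚ) • (MvPolynomial.monomial (e + Finsupp.single (some ⟨r, hr⟩) 1)) c'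
    have h3 : F g (P - (MvPolynomial.monomial d) c) +
        (((1 / 2 : ℚ) • Y2 d c p q + M +
          ∑ x ∈ (idx g ×ˢ idx g).erase (p, q), (1 / 2 : ℚ) • (Y2 d c x.1 x.2 + T2 d c x.1 x.2)) +
          ∑ p ∈ idx g, U1 d c p) - M =
        F g (P - (MvPolynomial.monomial d) c) +
        (((1 / 2 : ℚ) • Y2 d c p q +
          ∑ x ∈ (idx g ×ˢ idx g).erase (p, q), (1 / 2 : ℚ) • (Y2 d c x.1 x.2 + T2 d c x.1 x.2)) +
          ∑ p ∈ idx g, U1 d c p) := by ring
    rw [h3]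
    refine hcP.F.add (InP.add (InP.add ((InP.yMul _).smul _ (by norm_num)) (InP.sum fun x _ => ?_))
      (InP.sum fun p _ => U1_inP d c h20 hc.le p))
    exact ((InP.yMul _).add (T2_inP d c h20 hc.le _ _)).smul _ (by norm_num)

theorem Dom.lower {P : RelRing g} (e : Var g →₀ ℕ) (p r : ℕ × ℕ) (hp : Valid g p)
    (hr : Valid g r) (hr1 : p.1 = r.1 + 2) (hr2 : r.2 = p.2)
    (h20 : (e + Finsupp.single (some ⟨p, hp⟩) 1 : Var g →₀ ℕ) (some ⟨(2, 0), hv⟩) = 0)
    (hP : Dom hv P (e + Finsupp.single (some ⟨p, hp⟩) 1)) :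
    Dom hv (F g P) (e + Finsupp.single (some ⟨r, hr⟩) 1) := by
  classical
  obtain ⟨c, hc, hcP⟩ := hP
  set d := e + Finsupp.single (some ⟨p, hp⟩) 1 with hd
  have h1 : F g P = F g (P - MvPolynomial.monomial d c) + F g (MvPolynomial.monomial d c) := by
    rw [← F_add, sub_add_cancel]
  have hT := U1_eq e c p r hp hr hr1 hr2
  rw [← hd] at hT
  set B : ℕ := d (some ⟨p, hp⟩) with hB
  have hB1 : 0 < B := by rw [hB, hd]; simp
  refine ⟨c * B, ?_, ?_⟩
  · rw [sg_add_single]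
    rw [hd, sg_add_single] at hc
    have : -sg e * (c * B) = (-sg e * c) * B := by ring
    rw [this]
    have hB' : (0 : ℚ) < B := by exact_mod_cast hB1
    positivity
  · rw [h1, F_monomial, ← Finset.add_sum_erase _ _ (mem_idx_of_valid g p hp)]
    simp only [hT]
    set M := (MvPolynomial.monomial (e + Finsupp.single (some ⟨r, hr⟩) 1)) (c * (B : ℚ))
    have h3 : F g (P - (MvPolynomial.monomial d) c) +
        (∑ x ∈ idx g ×ˢ idx g, (1 / 2 : ℚ) • (Y2 d c x.1 x.2 + T2 d c x.1 x.2) +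
          (M + ∑ x ∈ (idx g).erase p, U1 d c x)) - M =
        F g (P - (MvPolynomial.monomial d) c) +
        (∑ x ∈ idx g ×ˢ idx g, (1 / 2 : ℚ) • (Y2 d c x.1 x.2 + T2 d c x.1 x.2) +
          (∑ x ∈ (idx g).erase p, U1 d c x)) := by ring
    rw [h3]
    refine hcP.F.add (InP.add (InP.sum fun x _ => ?_)
      (InP.sum fun p _ => U1_inP d c h20 hc.le p))
    exact ((InP.yMul _).add (T2_inP d c h20 hc.le _ _)).smul _ (by norm_num)

end K885.Taut
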